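import Cfsg.Agent.Lib.Helper51.PCore
import Cfsg.Prelude.Def_Transfer

set_option autoImplicit false
open Cfsg

namespace Cfsg.Agent.Lib.Helper51

variable {G : Type*} [Group G] {p : ℕ}

/-- `O_p(K)` of a normal subgroup `K`, viewed in `G`, is normal in `G`. -/
theorem map_pCore_normal (K : Subgroup G) [hK : K.Normal] :
    ((pCore p K).map K.subtype).Normal := by
  constructor
  rintro _ ⟨y, hy, rfl⟩ g
  refine ⟨MulAut.conjNormal g y, (mem_pCore_equiv p (MulAut.conjNormal g) y).2 hy, ?_⟩
  simp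

theorem normal_pGroup_subgroupOf_le_pCore {L : Subgroup G} (hL : L.Normal) (hp : IsPGroup p L)
    (H : Subgroup G) : L.subgroupOf H ≤ pCore p H :=
  le_pCore p (hL.subgroupOf H) hp.comap_subtype

theorem centralizer_pCore_le_of_pElements
    (h : ∀ c ∈ Subgroup.centralizer (pCore p G : Set G), ∃ k : ℕ, c ^ p ^ k = 1) :
    Subgroup.centralizer (pCore p G : Set G) ≤ pCore p G := by
  have := pCore_normal (G := G) p
  apply le_pCore p Subgroup.normal_centralizer
  intro c
  obtain ⟨k, hk⟩ := h c c.2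
  exact ⟨k, Subtype.ext (by simpa using hk)⟩

theorem conj_pow_of_comm {c x r : G} (h1 : c * x * c⁻¹ = x * r) (h2 : c * r = r * c) (n : ℕ) :
    c ^ n * x * (c ^ n)⁻¹ = x * r ^ n := by
  induction n with
  | zero => simp
  | succ n ih =>
    have h3 : c * r ^ n * c⁻¹ = r ^ n := by
      have : Commute c (r ^ n) := (show Commute c r from h2).pow_right n
      rw [this.eq, mul_inv_cancel_right]
    calc c ^ (n + 1) * x * (c ^ (n + 1))⁻¹ = c * (c ^ n * x * (c ^ n)⁻¹) * c⁻¹ := by
          rw [pow_succ']; group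
      _ = c * (x * r ^ n) * c⁻¹ := by rw [ih]
      _ = (c * x * c⁻¹) * (c * r ^ n * c⁻¹) := by group
      _ = x * r * r ^ n := by rw [h1, h3]
      _ = x * r ^ (n + 1) := by rw [pow_succ', mul_assoc]

/-- Characteristic `p` passes to normal subgroups. -/
theorem charP_of_normal [Finite G] [Fact p.Prime]
    (hchar : Subgroup.centralizer (pCore p G : Set G) ≤ pCore p G) (H : Subgroup G) [hH : H.Normal] :
    Subgroup.centralizer (pCore p H : Set H) ≤ pCore p H := by
  apply centralizer_pCore_le_of_pElements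
  intro c hc
  have hQn : (pCore p G).Normal := pCore_normal p
  have hQp : IsPGroup p (pCore p G) := pCore_isPGroup p
  obtain ⟨a, ha⟩ := IsPGroup.iff_card.1 hQp
  have hpow : ∀ y ∈ pCore p G, y ^ p ^ a = 1 := by
    intro y hy
    have := pow_card_eq_one' (x := (⟨y, hy⟩ : pCore p G))
    rw [ha] at this
    simpa using congrArg Subtype.val this
  have h1 : (c : G) ^ p ^ a ∈ pCore p G := by
    apply hchar
    rw [Subgroup.mem_centralizer_iff]
    intro x hx
    set r : G := x⁻¹ * ((c : G) * x * (c : G)⁻¹) with hr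
    have hrQ : r ∈ pCore p G := mul_mem (inv_mem hx) (hQn.conj_mem x hx c)
    have hrH : r ∈ H := by
      have e : r = (x⁻¹ * (c : G) * x⁻¹⁻¹) * (c : G)⁻¹ := by rw [hr]; group
      rw [e]
      exact mul_mem (hH.conj_mem c c.2 x⁻¹) (inv_mem c.2)
    have hrR : (⟨r, hrH⟩ : H) ∈ pCore p H :=
      normal_pGroup_subgroupOf_le_pCore hQn hQp H (Subgroup.mem_subgroupOf.2 hrQ)
    have hcr : (c : G) * r = r * c := by
      rw [Subgroup.mem_centralizer_iff] at hc
      exact (congrArg Subtype.val (hc _ hrR)).symm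
    have h2 := conj_pow_of_comm (c := (c : G)) (x := x) (r := r) (by rw [hr]; group) hcr (p ^ a)
    rw [hpow r hrQ, mul_one] at h2
    rw [mul_inv_eq_iff_eq_mul] at h2
    exact h2.symm
  refine ⟨a + a, ?_⟩
  apply Subtype.ext
  have := hpow _ h1
  rw [← pow_mul, ← pow_add] at this
  simpa using this

/-- Characteristic `p` passes to subgroups `H` with `O^p(H)` normal. -/
theorem charP_of_pResidual_normal [Finite G] [Fact p.Prime]
    (hchar : Subgroup.centralizer (pCore p G : Set G) ≤ pCore p G) (H : Subgroup G)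
    (hH : ((pResidual p H).map H.subtype).Normal) :
    Subgroup.centralizer (pCore p H : Set H) ≤ pCore p H := by
  set K := (pResidual p H).map H.subtype with hK
  have hKH : K ≤ H := Subgroup.map_subtype_le _
  have hcK := charP_of_normal hchar K
  have hLn : ((pCore p K).map K.subtype).Normal := map_pCore_normal K
  have hLp : IsPGroup p ((pCore p K).map K.subtype) := (pCore_isPGroup p).map _
  apply centralizer_pCore_le_of_pElements
  intro c hc
  have hp : p.Prime := Fact.out
  obtain ⟨k, m, hm, hkm⟩ := Nat.exists_eq_pow_mul_and_not_dvd (orderOf_pos c).ne' p hp.ne_one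
  have hord : orderOf (c ^ p ^ k) = m := by
    rw [orderOf_pow, hkm, Nat.gcd_eq_right (Dvd.intro _ rfl), Nat.mul_div_cancel_left _ (pow_pos hp.pos k)]
  have hcop : Nat.Coprime (orderOf (c ^ p ^ k)) p := by
    rw [hord]
    exact ((Nat.Prime.coprime_iff_not_dvd hp).2 hm).symm
  have hcK' : ((c ^ p ^ k : H) : G) ∈ K := ⟨_, Subgroup.subset_closure hcop, rfl⟩
  have h1 : (⟨_, hcK'⟩ : K) ∈ pCore p K := by
    apply hcK
    rw [Subgroup.mem_centralizer_iff]
    intro y hy
    have hyH : ((y : G)) ∈ H := hKH y.2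
    have hyR : (⟨y, hyH⟩ : H) ∈ pCore p H :=
      normal_pGroup_subgroupOf_le_pCore hLn hLp H (Subgroup.mem_subgroupOf.2 ⟨y, hy, rfl⟩)
    rw [Subgroup.mem_centralizer_iff] at hc
    have h2 : Commute (⟨y, hyH⟩ : H) c := hc _ hyR
    have h3 := (h2.pow_right (p ^ k)).eq
    apply Subtype.ext
    exact congrArg (fun z : H => (z : G)) h3
  obtain ⟨j, hj⟩ := (pCore_isPGroup (G := K) p) ⟨_, h1⟩
  have hj' : (c ^ p ^ k) ^ p ^ j = 1 := by
    have := congrArg (fun z : pCore p K => ((z : K) : G)) hj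
    apply Subtype.ext
    simpa using this
  have h4 : orderOf (c ^ p ^ k) ∣ p ^ j := orderOf_dvd_of_pow_eq_one hj'
  have h5 : orderOf (c ^ p ^ k) = 1 :=
    Nat.Coprime.eq_one_of_dvd (hcop.pow_right j) h4
  exact ⟨k, orderOf_eq_one_iff.1 h5⟩

end Cfsg.Agent.Lib.Helper51
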